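import Groth.Agent.L09.Artin.Cand.Space
import Groth.Agent.L19.SmoothLocus
import Groth.Agent.L23.FppfSmooth

/-!
# Restriction of sections to an open of the atlas
-/

set_option autoImplicit false
set_option backward.isDefEq.respectTransparency false
set_option backward.isDefEq.respectTransparency.types false

universe u

open CategoryTheory CategoryTheory.Limits AlgebraicGeometry Opposite AlgSp

noncomputable section

namespace Groth.L09.Artin.Cand

open Groth.L23.UHPush (isPullback_of_yon)
open Groth.L05.Point (Nhd)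

/-- Smoothness at a point descends along a flat map of finite presentation. -/
theorem nhd_smooth_of_flp_comp {X Y Z : Scheme.{u}} (χ : X ⟶ Y) [Flat χ] [LocallyOfFinitePresentation χ]
    (g : Y ⟶ Z) [Smooth (χ ≫ g)] (x : X) : Nhd @Smooth g (χ x) := by
  have : IsOpenMap χ := χ.isOpenMap
  let V : Y.Opens := ⟨Set.range χ, this.isOpen_range⟩
  refine ⟨V, ⟨x, rfl⟩, ?_⟩
  let c : X ⟶ V.toScheme := IsOpenImmersion.lift V.ι χ (by rw [Scheme.Opens.range_ι]; exact subset_rfl)
  have hc : c ≫ V.ι = χ := IsOpenImmersion.lift_fac _ _ _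
  have hflat : Flat c :=
    MorphismProperty.of_postcomp @Flat (W' := @IsOpenImmersion) _ V.ι inferInstance (by rw [hc]; infer_instance)
  have hlfp : LocallyOfFinitePresentation c :=
    MorphismProperty.of_postcomp @LocallyOfFinitePresentation (W' := @IsOpenImmersion) _ V.ι inferInstance
      (by rw [hc]; infer_instance)
  have : Surjective c := ⟨fun v => by
    obtain ⟨w, e⟩ := v.2
    refine ⟨w, V.ι.isEmbedding.injective ?_⟩
    rw [← Scheme.Hom.comp_apply, hc]
    exact e⟩
  refine Groth.L23.FppfSmooth.smooth_of_fppf_comp c (V.ι ≫ g) ?_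
  rw [← Category.assoc, hc]
  infer_instance

variable {S : Scheme.{u}} {𝒳 : AlgSt.Cat S} {U M Zs : Over S} {f : FibCat.overCat U ⥤ᵇ 𝒳} (π : Zs ⟶ M)
  (hA : Atl f) {ξ η : 𝒳.obj} {R R' : Over S} (hR : 𝒳.p.obj ξ = R) (hR' : 𝒳.p.obj η = R')

/-- Composition of sections with an arrow. -/
def sPush (φ : η ⟶ ξ) (r : R' ⟶ R) [𝒳.p.IsHomLift r φ] : SSp hA hR' π ⟶ SSp hA hR π := ObjectProperty.homMk
  { app := fun _ => ↾fun p => Sec.push φ r p
    naturality := fun _ _ k => by
      ext p : 3
      exact Sec.push_restr φ r k.unop p }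

theorem comp_sPush (φ : η ⟶ ξ) (r : R' ⟶ R) [𝒳.p.IsHomLift r φ] {T : Over S}
    (l : (yon S).obj T ⟶ SSp hA hR' π) :
    secPtEquiv hA hR π (l ≫ sPush π hA hR hR' φ r) = (secPtEquiv hA hR' π l).push φ r :=
  ((J S).uliftYonedaEquiv_comp l (sPush π hA hR hR' φ r)).trans rfl

/-- Sections of a pullback of the object are the base change. -/
theorem isPullback_sPush (φ : η ⟶ ξ) (r : R' ⟶ R) [𝒳.p.IsHomLift r φ] :
    IsPullback (sPush π hA hR hR' φ r) (gS hA hR' π) (gS hA hR π) ((yon S).map r) := by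
  refine isPullback_of_yon ?_ (fun Z k k' h₁ h₂ => ?_) fun Z p z hz => ?_
  · refine Groth.L23.hom_ext_yon fun T l => ?_
    rw [← Category.assoc, comp_gS, comp_sPush, ← Category.assoc, comp_gS, ← Functor.map_comp]
    rfl
  · apply (secPtEquiv hA hR' π).injective
    rw [comp_gS, comp_gS] at h₂
    refine Sec.push_injective hA.grpd φ r ((yon S).map_injective h₂) ?_
    rw [← comp_sPush π hA hR hR', ← comp_sPush π hA hR hR', h₁]
  · obtain ⟨z, rfl⟩ := (yon S).map_surjective z
    rw [comp_gS, ← Functor.map_comp] at hz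
    obtain ⟨q, hq, hqp⟩ := Sec.exists_push hA.grpd φ r (secPtEquiv hA hR π p) z ((yon S).map_injective hz).symm
    refine ⟨(secPtEquiv hA hR' π).symm q, (secPtEquiv hA hR π).injective ?_, ?_⟩
    · rw [comp_sPush, Equiv.apply_symm_apply, hqp]
    · rw [comp_gS, Equiv.apply_symm_apply, hq]

theorem toH_gS [Flat π.left] [LocallyOfFinitePresentation π.left] [Surjective π.left] (A : CObj f π) :
    toH hA A ≫ gS hA (uObj_p f) π = uK hA A.hR :=
  Groth.L23.hom_ext_yon fun T l => by
    obtain ⟨hu, -⟩ := comp_toH hA A l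
    rw [← Category.assoc, comp_gS, hu, comp_uK]

end Groth.L09.Artin.Cand
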