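import Groth.Agent.L09.Artin.Chart.ParPush
import Groth.Agent.L09.Artin.Chart.Open
import Mathlib.RingTheory.Spectrum.Prime.RingHom

/-!
# Smooth points above every point of the atlas
-/

set_option autoImplicit false
set_option backward.isDefEq.respectTransparency false
set_option backward.isDefEq.respectTransparency.types false

universe u

open CategoryTheory CategoryTheory.Limits AlgebraicGeometry Opposite AlgSp
open scoped TensorProduct

noncomputable section

namespace Groth.L09.Artin.Cand

open Groth.L05.Point (Nhd)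
open Groth.L09.Artin.Res (FLP repBySpWith_pushMap FinFlat)
open Groth.L23.UHPush (push proj pushMap pushMap_proj)

variable {S : Scheme.{u}} {𝒳 : AlgSt.Cat S} {U : Over S} {f : FibCat.overCat U ⥤ᵇ 𝒳}

/-- A presentation of an open piece of the smooth points. -/
structure ParChart (hA : Atl f) (d : ℕ) (u : U.left) where
  V : Over S
  jV : V ⟶ U
  openV : IsOpenImmersion jV.left
  G : Over S
  θ : (yon S).obj G ⟶ SSp hA (f.w_obj (Over.mk jV)) (πStr S d)
  flp : ∀ {T : Over S} (l : (yon S).obj T ⟶ SSp hA (f.w_obj (Over.mk jV)) (πStr S d)),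
    RepWith @Etale l → ∀ {Q : Over S} (a : Q ⟶ G) (b : Q ⟶ T),
      IsPullback ((yon S).map a) ((yon S).map b) θ l → Flat b.left ∧ LocallyOfFinitePresentation b.left
  gG : G ⟶ V
  θ_gS : θ ≫ gS hA _ (πStr S d) = (yon S).map gG
  smooth : Smooth gG.left
  pt : G.left
  pt_eq : jV.left (gG.left pt) = u

theorem exists_parChart (hA : Atl f) (u : U.left) : ∃ d : ℕ, d ≠ 0 ∧ Nonempty (ParChart hA d u) := by
  let i₀ := U.left.affineCover.idx u
  obtain ⟨a₀, ha₀⟩ := U.left.affineCover.covers u
  let A : Type u := Γ(U.left.affineCover.X i₀, ⊤)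
  obtain ⟨A, _, jl, hjl, a, ha⟩ : ∃ (A : Type u) (_ : CommRing A) (jl : Spec (CommRingCat.of A) ⟶ U.left)
      (_ : IsOpenImmersion jl) (a : Spec (CommRingCat.of A)), jl a = u :=
    ⟨_, _, U.left.affineCover.f i₀, inferInstance, a₀, ha₀⟩
  let aS : Spec (CommRingCat.of A) ⟶ S := jl ≫ U.hom
  let jA : aObj aS ⟶ U := Over.homMk jl rfl
  let hRA : 𝒳.p.obj (f.obj (Over.mk jA)) = aObj aS := f.w_obj _
  -- an affine chart of the space of lifts over the affine open
  obtain ⟨X0, p0, hp, hps⟩ := (isAlgSpace_KSp hA hRA).atlas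
  let x := (ptEquiv hA hRA p0).x
  obtain ⟨y, hy⟩ := surj_xK hA hRA (Points.ofScheme (aObj aS) a)
  obtain ⟨x₀, rfl⟩ := Groth.L23.surjective_ofPt hps y
  rw [Points.map_ofPt, comp_xK, Groth.L23.ofPt_map] at hy
  have hx₀ : x.left x₀ = a := (Points.schemeEquiv (aObj aS)).injective hy
  obtain ⟨C, _, cl, hcl, c, hc⟩ : ∃ (C : Type u) (_ : CommRing C) (cl : Spec (CommRingCat.of C) ⟶ X0.left)
      (_ : IsOpenImmersion cl) (c : Spec (CommRingCat.of C)), cl c = x₀ := by
    obtain ⟨c, hc⟩ := X0.left.affineCover.covers x₀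
    exact ⟨_, _, X0.left.affineCover.f _, inferInstance, c, hc⟩
  letI : Algebra A C := (Spec.preimage (cl ≫ x.left)).hom.toAlgebra
  have hcx : cl ≫ x.left = Spec.map (CommRingCat.ofHom (algebraMap A C)) := (Spec.map_preimage _).symm
  let cY0 : cObj aS C ⟶ X0 := Over.homMk cl (by
    show cl ≫ X0.hom = Spec.map _ ≫ aS
    rw [← hcx, Category.assoc]
    congr 1
    exact (Over.w x).symm)
  let πC : (yon S).obj (cObj aS C) ⟶ KSp hA hRA := (yon S).map cY0 ≫ p0
  have hπC : RepWith @Etale πC :=
    Groth.L23.repWith_comp (Groth.L23.repWith_map (inferInstanceAs (Etale cl))) hp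
  have hπCx : πC ≫ xK hA hRA = (yon S).map (cMap aS C) := by
    rw [Category.assoc, comp_xK, ← Functor.map_comp]
    exact congrArg (yon S).map (Over.OverMorphism.ext hcx)
  have w : πC ≫ xK hA hRA = (yon S).map (cMap aS C) ≫ 𝟙 _ := by rw [Category.comp_id, hπCx]
  have hfl : Flat (cMap aS C).left :=
    (flp_xK hA hRA).1 πC (𝟙 _) _ hπC (Groth.L23.repWith_of_isIso _) w
  have hfp : LocallyOfFinitePresentation (cMap aS C).left :=
    (flp_xK hA hRA).2 πC (𝟙 _) _ hπC (Groth.L23.repWith_of_isIso _) w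
  haveI : Module.Flat A C :=
    RingHom.flat_algebraMap_iff.1 ((HasRingHomProperty.Spec_iff (P := @Flat)).1 hfl)
  haveI : Algebra.FinitePresentation A C :=
    RingHom.finitePresentation_algebraMap.1 ((HasRingHomProperty.Spec_iff (P := @LocallyOfFinitePresentation)).1 hfp)
  have hca : Spec.map (CommRingCat.ofHom (algebraMap A C)) c = a := by
    erw [← hcx, Scheme.Hom.comp_apply, hc]
    exact hx₀
  haveI : Nontrivial ((show PrimeSpectrum A from a).asIdeal.ResidueField ⊗[A] C) :=
    (PrimeSpectrum.nontrivial_iff_mem_rangeComap _).2 ⟨c, hca⟩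
  obtain ⟨d, q, hq, hqa, hd, g, hg, hsm⟩ := exists_smooth_par (C := C) (show PrimeSpectrum A from a).asIdeal
  haveI : NeZero d := ⟨hd⟩
  refine ⟨d, hd, ?_⟩
  -- the parameter scheme maps to the space of sections
  let cY : (yon S).obj (yObj aS C d) ⟶ liftObj hA hRA (πStr S d) :=
    pullback.lift ((yon S).map (yC aS C d) ≫ πC) ((yon S).map (yMap aS C d)) (by
      rw [Category.assoc, hπCx, ← Functor.map_comp, ← Functor.map_comp, pullback.condition])
  have hcY : cY ≫ liftMap hA hRA (πStr S d) = (yon S).map (yMap aS C d) := pullback.lift_snd _ _ _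
  have sY : IsPullback ((yon S).map (yC aS C d)) cY πC
      (pullback.fst (xK hA hRA) ((yon S).map (finMap (πStr S d) (aObj aS) ≫ bFst (aObj aS) (MStr S d)))) := by
    refine IsPullback.of_bot ?_ (pullback.lift_fst _ _ _).symm (IsPullback.of_hasPullback _ _)
    rw [hπCx]
    erw [hcY]
    exact ((IsPullback.of_hasPullback (finMap (πStr S d) (aObj aS) ≫ bFst (aObj aS) (MStr S d))
      (cMap aS C)).map (yon S)).flip
  have hcYet : RepWith @Etale cY := Groth.L23.repWith_of_isPullback sY hπC
  have H := exists_parPush aS C d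
  rw [← hcY] at H
  obtain ⟨θ₀, hθ₀, hθ₀p⟩ := H
  let Gg : Over S := Over.mk (Spec.map (CommRingCat.ofHom (algebraMap (Par A C d) (Localization.Away g))) ≫
    (parObj aS C d).hom)
  let jg : Gg ⟶ parObj aS C d :=
    Over.homMk (Spec.map (CommRingCat.ofHom (algebraMap (Par A C d) (Localization.Away g)))) rfl
  have hjg : IsOpenImmersion jg.left := IsOpenImmersion.of_isLocalization g
  let k : (yon S).obj Gg ⟶ push ((yon S).map (finMap (πStr S d) (aObj aS))) (cY ≫ liftMap hA hRA (πStr S d)) :=
    (yon S).map jg ≫ θ₀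
  have hk : RepWith @Etale k :=
    Groth.L23.repWith_comp (Groth.L23.repWith_map (inferInstanceAs (Etale jg.left))) (Groth.L23.repWith_of_isIso θ₀)
  have hfin : FinFlat (finMap (πStr S d) (aObj aS)).left :=
    ⟨⟨finMap_prop (P := @IsFinite) inferInstance _, finMap_prop (P := @Flat) inferInstance _⟩,
      finMap_prop (P := @LocallyOfFinitePresentation) inferInstance _⟩
  have hpm := repBySpWith_pushMap (b := liftMap hA hRA (πStr S d)) (Groth.L23.repWith_map hfin) cY hcYet
  obtain ⟨t, ht⟩ : ∃ t : Spec (CommRingCat.of (Localization.Away g)),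
      Spec.map (CommRingCat.ofHom (algebraMap (Par A C d) (Localization.Away g))) t = (⟨q, hq⟩ : PrimeSpectrum _) := by
    have h : (⟨q, hq⟩ : PrimeSpectrum (Par A C d)) ∈
        Set.range (PrimeSpectrum.comap (algebraMap (Par A C d) (Localization.Away g))) := by
      rw [PrimeSpectrum.localization_away_comap_range (Localization.Away g) g]
      exact hg
    exact h
  refine ⟨{
    V := aObj aS
    jV := jA
    openV := hjl
    G := Gg
    θ := k ≫ pushMap ((yon S).map (finMap (πStr S d) (aObj aS))) (liftMap hA hRA (πStr S d)) cY ≫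
      (secSpIso hA hRA (πStr S d)).hom
    flp := fun {T} l hl {Q} a b sq => ?_
    gG := jg ≫ parBase aS C d
    θ_gS := ?_
    smooth := ?_
    pt := t
    pt_eq := ?_ }⟩
  · let l' := l ≫ (secSpIso hA hRA (πStr S d)).inv
    let F := pullback (pushMap ((yon S).map (finMap (πStr S d) (aObj aS))) (liftMap hA hRA (πStr S d)) cY) l'
    obtain ⟨hF, hF'⟩ := (repBySpWith_hom_iff _ _).1 hpm l' (pullback.fst _ _) (pullback.snd _ _)
      (IsPullback.of_hasPullback _ _)
    let e : (yon S).obj Q ⟶ F := pullback.lift ((yon S).map a ≫ k) ((yon S).map b) (by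
      rw [← cancel_mono (secSpIso hA hRA (πStr S d)).hom]
      simp only [Category.assoc, l', Iso.inv_hom_id, Category.comp_id]
      exact sq.w)
    have se : IsPullback ((yon S).map a) e k (pullback.fst _ l') := by
      refine IsPullback.of_bot ?_ (pullback.lift_fst _ _ _).symm (IsPullback.of_hasPullback _ _)
      rw [show e ≫ pullback.snd _ l' = (yon S).map b from pullback.lift_snd _ _ _]
      exact sq.of_iso (Iso.refl _) (Iso.refl _) (Iso.refl _) (secSpIso hA hRA (πStr S d)).symm
        (by simp) (by simp) (by simp) (by simp [l'])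
    have he : RepWith @Etale e := Groth.L23.repWith_of_isPullback se hk
    exact ⟨hF'.1 e (𝟙 _) b he (Groth.L23.repWith_of_isIso _) (by rw [pullback.lift_snd, Category.comp_id]),
      hF'.2 e (𝟙 _) b he (Groth.L23.repWith_of_isIso _) (by rw [pullback.lift_snd, Category.comp_id])⟩
  · have h1 : pushMap ((yon S).map (finMap (πStr S d) (aObj aS))) (liftMap hA hRA (πStr S d)) cY ≫
        (secSpIso hA hRA (πStr S d)).hom ≫ gS hA hRA (πStr S d) =
          proj _ _ ≫ (yon S).map (bFst (aObj aS) (MStr S d)) := by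
      rw [secSpIso_gS, ← Category.assoc, pushMap_proj]
    simp only [k, Category.assoc]
    erw [h1]
    rw [← Category.assoc θ₀, hθ₀p, ← Functor.map_comp, bLift_fst, ← Functor.map_comp]
  · show Smooth (Spec.map _ ≫ Spec.map _)
    rw [← Spec.map_comp, ← CommRingCat.ofHom_comp]
    refine (HasRingHomProperty.Spec_iff (P := @Smooth)).2 ?_
    show RingHom.Smooth ((algebraMap (Par A C d) (Localization.Away g)).comp (algebraMap A (Par A C d)))
    rw [← IsScalarTower.algebraMap_eq]
    exact RingHom.smooth_algebraMap.2 hsm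
  · show jl ((jg ≫ parBase aS C d).left t) = u
    rw [Over.comp_left, Scheme.Hom.comp_apply]
    erw [ht]
    rw [← ha]
    congr 1
    exact PrimeSpectrum.ext hqa

/-- Every point of the atlas is the image of a smooth point of every chart. -/
theorem exists_smooth_point (hA : Atl f) {d : ℕ} [NeZero d] {u : U.left} (c : ParChart hA d u)
    (A : CObj f (πStr S d)) (hc : RepWith @Etale (cPt hA A)) (hcs : RepWith @Surjective (cPt hA A))
    {P0 : Over S} (π₀ : (yon S).obj P0 ⟶ KSp hA A.hR) (hπ : RepWith @Etale π₀) (hπs : RepWith @Surjective π₀) :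
    ∃ y : P0.left, Nhd @Smooth (ptEquiv hA A.hR π₀).u.left y ∧ (ptEquiv hA A.hR π₀).u.left y = u := by
  let b₀ := (ptEquiv hA A.hR π₀).u
  let hRV : 𝒳.p.obj (f.obj (Over.mk c.jV)) = c.V := f.w_obj _
  let πH := π₀ ≫ toH hA A
  have hH : RepWith @Etale πH :=
    Groth.L23.repWith_comp hπ (Groth.L23.repWith_of_isPullback (isPullback_toH hA A).flip hc)
  have hHs : RepWith @Surjective πH :=
    Groth.L23.repWith_comp hπs (Groth.L23.repWith_of_isPullback (isPullback_toH hA A).flip hcs)
  have hHg : πH ≫ gS hA (uObj_p f) (πStr S d) = (yon S).map b₀ := by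
    rw [Category.assoc, toH_gS, comp_uK]
  let P1 : Over S := pullback b₀ c.jV
  have sH := isPullback_sPush (πStr S d) hA (uObj_p f) hRV (uArrow f c.jV) c.jV
  let l : (yon S).obj P1 ⟶ SSp hA hRV (πStr S d) :=
    sH.lift ((yon S).map (pullback.fst b₀ c.jV) ≫ πH) ((yon S).map (pullback.snd b₀ c.jV)) (by
      rw [Category.assoc, hHg, ← Functor.map_comp, ← Functor.map_comp, pullback.condition])
  have sl : IsPullback ((yon S).map (pullback.fst b₀ c.jV)) l πH (sPush (πStr S d) hA (uObj_p f) hRV (uArrow f c.jV) c.jV) := by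
    refine IsPullback.of_bot ?_ (sH.lift_fst _ _ _).symm sH
    rw [sH.lift_snd, hHg]
    exact (IsPullback.of_hasPullback b₀ c.jV).map (yon S)
  have hl : RepWith @Etale l := Groth.L23.repWith_of_isPullback sl hH
  have hls : RepWith @Surjective l := Groth.L23.repWith_of_isPullback sl hHs
  obtain ⟨Q, a, b, sq⟩ : ∃ (Q : Over S) (a : Q ⟶ c.G) (b : Q ⟶ P1),
      IsPullback ((yon S).map a) ((yon S).map b) c.θ l := by
    obtain ⟨Q, b, a, sq⟩ := Groth.L23.exists_isPullback_of_representable hl.1 c.θ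
    exact ⟨Q, a, b, sq.flip⟩
  obtain ⟨hbf, hbp⟩ := c.flp l hl a b sq
  have hae : Etale a.left := Groth.L23.repWith_prop hl sq.flip
  have has : Surjective a.left := Groth.L23.repWith_prop hls sq.flip
  obtain ⟨q, hq⟩ := has.surj c.pt
  have hag : a ≫ c.gG = b ≫ pullback.snd b₀ c.jV := (yon S).map_injective (by
    rw [Functor.map_comp, Functor.map_comp, ← c.θ_gS, ← Category.assoc, sq.w, Category.assoc]
    congr 1
    exact sH.lift_snd _ _ _)
  have := c.openV
  have := c.smooth
  have hfst : IsOpenImmersion (pullback.fst b₀ c.jV).left :=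
    MorphismProperty.of_isPullback (P := @IsOpenImmersion)
      (((IsPullback.of_hasPullback b₀ c.jV).map (Over.forget S)).flip) ‹_›
  let χ : Q.left ⟶ P0.left := b.left ≫ (pullback.fst b₀ c.jV).left
  have e : χ ≫ b₀.left = (a.left ≫ c.gG.left) ≫ c.jV.left := by
    rw [← Over.comp_left, hag, Over.comp_left]
    show (_ ≫ _) ≫ _ = (_ ≫ _) ≫ _
    rw [Category.assoc, Category.assoc, ← Over.comp_left, pullback.condition, Over.comp_left]
  have : Smooth (χ ≫ b₀.left) := by rw [e]; infer_instance
  refine ⟨χ q, nhd_smooth_of_flp_comp χ b₀.left q, ?_⟩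
  show b₀.left (χ q) = u
  rw [← Scheme.Hom.comp_apply, e, Scheme.Hom.comp_apply, Scheme.Hom.comp_apply, hq]
  exact c.pt_eq

end Groth.L09.Artin.Cand
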