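import Groth.Agent.L09.Artin.Str
import Groth.Agent.L24.Boot.PairTarget
import Mathlib.AlgebraicGeometry.Morphisms.FinitePresentation
import Mathlib.RingTheory.RingHom.FinitePresentation
import Mathlib.CategoryTheory.Limits.Constructions.Over.Connected

/-!
# The universal finite free family over the scheme of structure constants
-/

set_option autoImplicit false
set_option backward.isDefEq.respectTransparency.types false

universe u

open CategoryTheory CategoryTheory.Limits AlgebraicGeometry TensorProduct

noncomputable section

namespace Groth.L09.Artin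

namespace Str

variable {T T' : Type u} [CommRing T] [CommRing T'] {d : ℕ} {s : Str T d}

/-- The map of algebras attached to a map of structure constants. -/
def algMap (θ : T →+* T') {s' : Str T' d} (h : s.map θ = s') : s.Alg →+* s'.Alg :=
  h ▸ (letI := θ.toAlgebra
    ((s.baseChangeEquiv T').symm.toRingEquiv.toRingHom.comp
      (Algebra.TensorProduct.includeRight : _ →ₐ[T] T' ⊗[T] s.Alg).toRingHom :
        s.Alg →+* (s.map (algebraMap T T')).Alg))

theorem algMap_smul_basis (θ : T →+* T') {s' : Str T' d} (h : s.map θ = s') (y : T) (j : Fin d) :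
    algMap θ h (y • s.basis j) = θ y • s'.basis j := by
  subst h
  letI := θ.toAlgebra
  show (s.baseChangeEquiv T').symm ((1 : T') ⊗ₜ[T] (y • s.basis j)) = _
  rw [AlgEquiv.symm_apply_eq, map_smul, TensorProduct.tmul_smul]
  have : s.baseChangeEquiv T' ((s.map θ).basis j) = (1 : T') ⊗ₜ s.basis j :=
    (Str.algEquiv_basis _ _ _ _ j).trans (Algebra.TensorProduct.basis_apply _ j)
  rw [this]
  exact (algebraMap_smul T' y ((1 : T') ⊗ₜ[T] s.basis j)).symm

theorem repr_algMap (θ : T →+* T') {s' : Str T' d} (h : s.map θ = s') (v : s.Alg) (j : Fin d) :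
    s'.basis.repr (algMap θ h v) j = θ (s.basis.repr v j) := by
  conv_lhs => rw [← s.basis.sum_repr v, map_sum]
  simp only [algMap_smul_basis, s'.basis.repr_sum_self]

theorem algMap_comp_algebraMap (θ : T →+* T') {s' : Str T' d} (h : s.map θ = s') :
    (algMap θ h).comp (algebraMap T s.Alg) = (algebraMap T' s'.Alg).comp θ := by
  ext y
  apply s'.basis.repr.injective
  ext j
  rw [RingHom.comp_apply, RingHom.comp_apply, repr_algMap, Algebra.algebraMap_eq_smul_one, map_smul,
    Finsupp.smul_apply, smul_eq_mul, map_mul, Algebra.algebraMap_eq_smul_one, map_smul, Finsupp.smul_apply,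
    smul_eq_mul, ← repr_algMap θ h, map_one]

theorem algMap_comp {T'' : Type u} [CommRing T''] (θ : T →+* T') {s' : Str T' d} (h : s.map θ = s')
    (θ' : T' →+* T'') {s'' : Str T'' d} (h' : s'.map θ' = s'') (h'' : s.map (θ'.comp θ) = s'') :
    (algMap θ' h').comp (algMap θ h) = algMap (θ'.comp θ) h'' := by
  refine RingHom.ext fun v => s''.basis.repr.injective (Finsupp.ext fun j => ?_)
  rw [RingHom.comp_apply, repr_algMap, repr_algMap, repr_algMap, RingHom.comp_apply]

theorem isPullback_algMap (θ : T →+* T') {s' : Str T' d} (h : s.map θ = s') :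
    IsPullback (Spec.map (CommRingCat.ofHom (algMap θ h)))
      (Spec.map (CommRingCat.ofHom (algebraMap T' s'.Alg)))
      (Spec.map (CommRingCat.ofHom (algebraMap T s.Alg))) (Spec.map (CommRingCat.ofHom θ)) :=
  Groth.L24.Boot.isPullback_spec_of_basis θ (algMap θ h) (algMap_comp_algebraMap θ h) s.basis s'.basis fun i => by
    simpa using algMap_smul_basis θ h 1 i

end Str

variable (S : Scheme.{u}) (d : ℕ)

/-- The scheme of structure constants. -/
abbrev strScheme : Scheme.{u} := Spec (CommRingCat.of (StrRing.{u} d))

/-- The scheme of structure constants over the base. -/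
def MStr : Over S :=
  Over.mk (pullback.fst (specULiftZIsTerminal.from S) (specULiftZIsTerminal.from (strScheme.{u} d)))

/-- Its projection to the scheme of structure constants. -/
def MStr.proj : (MStr S d).left ⟶ strScheme.{u} d :=
  pullback.snd (specULiftZIsTerminal.from S) (specULiftZIsTerminal.from (strScheme.{u} d))

variable {S d}

/-- A map to the scheme of structure constants over the base. -/
def mLift {T : Over S} (h : T.left ⟶ strScheme.{u} d) : T ⟶ MStr S d :=
  Over.homMk (pullback.lift T.hom h (specULiftZIsTerminal.hom_ext _ _)) (pullback.lift_fst _ _ _)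

theorem mLift_proj {T : Over S} (h : T.left ⟶ strScheme.{u} d) : (mLift h).left ≫ MStr.proj S d = h :=
  pullback.lift_snd _ _ _

theorem mStr_hom_ext {T : Over S} {t t' : T ⟶ MStr S d}
    (h : t.left ≫ MStr.proj S d = t'.left ≫ MStr.proj S d) : t = t' :=
  Over.OverMorphism.ext (pullback.hom_ext ((Over.w t).trans (Over.w t').symm) h)

theorem lfp_strScheme : LocallyOfFinitePresentation (specULiftZIsTerminal.from (strScheme.{u} d)) := by
  have : Algebra.FinitePresentation (ULift.{u} ℤ) (StrRing.{u} d) :=
    Algebra.FinitePresentation.quotient (Submodule.fg_span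
      (((Set.finite_range _).union (Set.finite_range _)).union (Set.finite_range _)))
  rw [specULiftZIsTerminal.hom_ext (specULiftZIsTerminal.from (strScheme.{u} d))
    (Spec.map (CommRingCat.ofHom (algebraMap (ULift.{u} ℤ) (StrRing.{u} d))))]
  exact (HasRingHomProperty.Spec_iff (P := @LocallyOfFinitePresentation)).2
    (RingHom.finitePresentation_algebraMap.2 inferInstance)

instance : LocallyOfFinitePresentation (MStr S d).hom :=
  have := lfp_strScheme.{u} (d := d)
  inferInstanceAs (LocallyOfFinitePresentation
    (pullback.fst (specULiftZIsTerminal.from S) (specULiftZIsTerminal.from (strScheme.{u} d))))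

instance : IsAffineHom (MStr S d).hom :=
  have : IsAffineHom (specULiftZIsTerminal.from (strScheme.{u} d)) := isAffineHom_of_isAffine _
  (MorphismProperty.pullback_fst (P := @IsAffineHom) _ _ this : IsAffineHom
    (pullback.fst (specULiftZIsTerminal.from S) (specULiftZIsTerminal.from (strScheme.{u} d))))

/-- The map of the universal algebra to the scheme of structure constants. -/
abbrev univMap : Spec (CommRingCat.of (univStr.{u} (d := d)).Alg) ⟶ strScheme.{u} d :=
  Spec.map (CommRingCat.ofHom (algebraMap (StrRing.{u} d) (univStr.{u} (d := d)).Alg))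

variable (S d) in
/-- The universal family. -/
def ZStr : Over S := Over.mk (pullback.fst (MStr.proj S d) univMap ≫ (MStr S d).hom)

variable (S d) in
/-- Its projection. -/
def πStr : ZStr S d ⟶ MStr S d := Over.homMk (pullback.fst (MStr.proj S d) univMap) rfl

theorem univMap_props [NeZero d] : Flat (univMap.{u} (d := d)) ∧ Surjective (univMap.{u} (d := d)) ∧
    LocallyOfFinitePresentation (univMap.{u} (d := d)) ∧ IsFinite (univMap.{u} (d := d)) :=
  Groth.L24.Boot.flat_surjective_spec_of_basis univStr.basis

variable [NeZero d]

instance : Flat (πStr S d).left :=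
  have := (univMap_props.{u} (d := d)).1
  inferInstanceAs (Flat (pullback.fst (MStr.proj S d) univMap))

instance : Surjective (πStr S d).left :=
  have := (univMap_props.{u} (d := d)).2.1
  inferInstanceAs (Surjective (pullback.fst (MStr.proj S d) univMap))

instance : LocallyOfFinitePresentation (πStr S d).left :=
  have := (univMap_props.{u} (d := d)).2.2.1
  inferInstanceAs (LocallyOfFinitePresentation (pullback.fst (MStr.proj S d) univMap))

instance : IsFinite (πStr S d).left :=
  have := (univMap_props.{u} (d := d)).2.2.2
  inferInstanceAs (IsFinite (pullback.fst (MStr.proj S d) univMap))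

omit [NeZero d]

variable {R : Type u} [CommRing R] (τ : Spec (CommRingCat.of R) ⟶ S) (s : Str R d)

/-- The finite scheme of structure constants. -/
abbrev strFib : Over S := Over.mk (Spec.map (CommRingCat.ofHom (algebraMap R s.Alg)) ≫ τ)

/-- Its projection. -/
abbrev strFibMap : strFib τ s ⟶ Over.mk τ := Over.homMk (Spec.map (CommRingCat.ofHom (algebraMap R s.Alg))) rfl

/-- The map of the universal algebra to the algebra of structure constants. -/
def univAlgMap : (univStr.{u} (d := d)).Alg →+* s.Alg := Str.algMap s.toHom (univStr_map_toHom s)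

theorem isPullback_univAlgMap : IsPullback (Spec.map (CommRingCat.ofHom (algebraMap R s.Alg)))
    (Spec.map (CommRingCat.ofHom (univAlgMap s))) (Spec.map (CommRingCat.ofHom s.toHom)) univMap :=
  by
  have h := (Str.isPullback_algMap (s := univStr.{u} (d := d)) s.toHom (univStr_map_toHom s)).flip
  unfold univAlgMap univMap
  exact h

/-- The point of the scheme of structure constants. -/
abbrev strPt : Over.mk τ ⟶ MStr S d := mLift (T := Over.mk τ) (Spec.map (CommRingCat.ofHom s.toHom))

theorem strFib_w : ((strFibMap τ s).left ≫ (strPt τ s).left) ≫ MStr.proj S d =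
    Spec.map (CommRingCat.ofHom (univAlgMap s)) ≫ univMap := by
  rw [Category.assoc, mLift_proj]
  exact (isPullback_univAlgMap s).w

/-- The underlying map to the universal family. -/
def strFibZAux : (strFib τ s).left ⟶ pullback (MStr.proj S d) univMap :=
  pullback.lift ((strFibMap τ s).left ≫ (strPt τ s).left) (Spec.map (CommRingCat.ofHom (univAlgMap s))) (strFib_w τ s)

/-- Its map to the universal family. -/
def strFibZ : strFib τ s ⟶ ZStr S d :=
  Over.homMk (strFibZAux τ s) (by
    show strFibZAux τ s ≫ pullback.fst _ _ ≫ (MStr S d).hom = _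
    rw [strFibZAux, pullback.lift_fst_assoc, Category.assoc, Over.w (strPt τ s)]
    rfl)

theorem isPullback_strFib : IsPullback (strFibMap τ s) (strFibZ τ s) (strPt τ s) (πStr S d) := by
  refine IsPullback.of_map (Over.forget S) (Over.OverMorphism.ext (pullback.lift_fst _ _ _).symm) ?_
  show IsPullback (strFibMap τ s).left (strFibZAux τ s) (strPt τ s).left (pullback.fst (MStr.proj S d) univMap)
  refine (IsPullback.of_right ?_ (pullback.lift_fst _ _ _) (IsPullback.of_hasPullback (MStr.proj S d) univMap).flip).flip
  have e1 : strFibZAux τ s ≫ pullback.snd (MStr.proj S d) univMap =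
    Spec.map (CommRingCat.ofHom (univAlgMap s)) := pullback.lift_snd _ _ _
  erw [e1, mLift_proj]
  exact (isPullback_univAlgMap s).flip

end Groth.L09.Artin
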