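import Groth.Agent.L09.Artin.Param
import Groth.Agent.L09.Artin.Chart.Family
import Groth.Agent.L09.Artin.Cand.Sec

/-!
# The parameter algebra represents the pushforward along the universal family
-/

set_option autoImplicit false
set_option backward.isDefEq.respectTransparency.types false

universe u

open CategoryTheory CategoryTheory.Limits AlgebraicGeometry Opposite AlgSp

noncomputable section

namespace Groth.L09.Artin

open Groth.L23.UHPush (Elem homEquiv homEquiv_comp comp_proj push proj)
open Cand (baseObj bFst bSnd bLift bLift_fst bLift_snd base_hom_ext finObj finMap)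

variable {S : Scheme.{u}}

section Fib

variable {X₀ X Y T T₀ : Over S} {i : X₀ ⟶ X} {b : Y ⟶ X₀} {g : T ⟶ X} {φ : T₀ ⟶ T} {y₀ : T₀ ⟶ X₀}
  (sT : IsPullback y₀ φ i g)

include sT in
theorem point_ext {l l' : (yon S).obj T ⟶ push ((yon S).map i) ((yon S).map b)}
    (hl : l ≫ proj _ _ = (yon S).map g) (hl' : l' ≫ proj _ _ = (yon S).map g)
    (h : ∀ e e', (homEquiv _ _ T l).h φ ((yon S).map y₀) e = (homEquiv _ _ T l').h φ ((yon S).map y₀) e') : l = l' := by
  rw [comp_proj] at hl hl'
  refine (homEquiv _ _ T).injective (Res.elem_ext_of_isPullback _ _ (hl.trans hl'.symm) ?_ (h _ _))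
  rw [hl]
  exact sT.map (yon S)

include sT in
theorem exists_point_of_fib (k : T₀ ⟶ Y) (hk : k ≫ b = y₀) :
    ∃ l : (yon S).obj T ⟶ push ((yon S).map i) ((yon S).map b), l ≫ proj _ _ = (yon S).map g ∧
      ∀ e, (homEquiv _ _ T l).h φ ((yon S).map y₀) e = (yon S).map k := by
  have H : ∀ {Z : Over S} (x : Z ⟶ T) (y : (yon S).obj Z ⟶ (yon S).obj X₀),
      (yon S).map x ≫ (yon S).map g = y ≫ (yon S).map i →
      ∃ a : Z ⟶ T₀, (yon S).map a ≫ (yon S).map y₀ = y ∧ a ≫ φ = x := fun {Z} x y e => by
    obtain ⟨a, ha⟩ := (yon S).map_surjective ((sT.map (yon S)).lift y ((yon S).map x) e.symm)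
    exact ⟨a, by rw [ha]; exact (sT.map (yon S)).lift_fst _ _ _,
      (yon S).map_injective (by rw [Functor.map_comp, ha]; exact (sT.map (yon S)).lift_snd _ _ _)⟩
  choose a ha₁ ha₂ using @H
  have huniq : ∀ {Z : Over S} (p p' : Z ⟶ T₀), (yon S).map p ≫ (yon S).map y₀ = (yon S).map p' ≫ (yon S).map y₀ →
      p ≫ φ = p' ≫ φ → p = p' := fun p p' h₁ h₂ =>
    (yon S).map_injective ((sT.map (yon S)).hom_ext h₁ (by rw [← Functor.map_comp, ← Functor.map_comp, h₂]))
  let E : Elem ((yon S).map i) ((yon S).map b) T :=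
    { g := (yon S).map g
      h := fun x y e => (yon S).map (a x y e ≫ k)
      over := fun x y e => by rw [← Functor.map_comp, Category.assoc, hk, Functor.map_comp, ha₁]
      nat := fun k' x y e e' => by
        rw [← Functor.map_comp, ← Category.assoc]
        congr 2
        refine huniq _ _ ?_ ?_
        · rw [ha₁, Functor.map_comp, Category.assoc, ha₁]
        · rw [ha₂, Category.assoc, ha₂] }
  refine ⟨(homEquiv _ _ T).symm E, ?_, fun e => ?_⟩
  · rw [comp_proj, Equiv.apply_symm_apply]
  · have he : (yon S).map φ ≫ (yon S).map g = (yon S).map y₀ ≫ (yon S).map i := (sT.map (yon S)).w.symm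
    refine (Groth.L23.UHPush.Elem.congr_h _ _ ((homEquiv _ _ T).apply_symm_apply E) e he).trans ?_
    show (yon S).map (a φ _ he ≫ k) = _
    rw [show a φ _ he = 𝟙 T₀ from huniq _ _ (by rw [ha₁, (yon S).map_id, Category.id_comp])
      (by rw [ha₂, Category.id_comp]), Category.id_comp]

end Fib

variable {d : ℕ}

theorem toHom_map {R R' : Type u} [CommRing R] [CommRing R'] (s : Str R d) (x : R →+* R') :
    x.comp s.toHom = (s.map x).toHom := by
  refine strRing_hom_ext ?_
  rw [univStr_map_toHom]
  show (univStr.map s.toHom).map x = _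
  rw [univStr_map_toHom]

variable {A C : Type u} [CommRing A] [CommRing C] [Algebra A C] (aS : Spec (CommRingCat.of A) ⟶ S)

/-- The affine base. -/
abbrev aObj : Over S := Over.mk aS

/-- The affine scheme over it. -/
abbrev cObj (C : Type u) [CommRing C] [Algebra A C] : Over S :=
  Over.mk (Spec.map (CommRingCat.ofHom (algebraMap A C)) ≫ aS)

/-- Its projection. -/
abbrev cMap (C : Type u) [CommRing C] [Algebra A C] : cObj aS C ⟶ aObj aS :=
  Over.homMk (Spec.map (CommRingCat.ofHom (algebraMap A C))) rfl

/-- The affine scheme over the universal finite family. -/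
abbrev yObj (C : Type u) [CommRing C] [Algebra A C] (d : ℕ) : Over S :=
  pullback (finMap (πStr S d) (aObj aS) ≫ bFst (aObj aS) (MStr S d)) (cMap aS C)

/-- Its projection to the family. -/
abbrev yMap (C : Type u) [CommRing C] [Algebra A C] (d : ℕ) : yObj aS C d ⟶ finObj (πStr S d) (aObj aS) :=
  pullback.fst (finMap (πStr S d) (aObj aS) ≫ bFst (aObj aS) (MStr S d)) (cMap aS C)

/-- Its projection to the affine scheme. -/
abbrev yC (C : Type u) [CommRing C] [Algebra A C] (d : ℕ) : yObj aS C d ⟶ cObj aS C :=
  pullback.snd (finMap (πStr S d) (aObj aS) ≫ bFst (aObj aS) (MStr S d)) (cMap aS C)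

section Ring

variable {R : Type u} [CommRing R] {τ : Spec (CommRingCat.of R) ⟶ S} (χ : Over.mk τ ⟶ aObj aS) (s : Str R d)

/-- The point of the base. -/
abbrev gPt : Over.mk τ ⟶ baseObj (aObj aS) (MStr S d) := bLift χ (strPt τ s)

/-- The map of the fibre to the family. -/
def finPt : strFib τ s ⟶ finObj (πStr S d) (aObj aS) :=
  pullback.lift (strFibMap τ s ≫ gPt aS χ s) (strFibZ τ s) (by
    rw [Category.assoc, bLift_snd]
    exact (isPullback_strFib τ s).w)

theorem finPt_fst : finPt aS χ s ≫ finMap (πStr S d) (aObj aS) = strFibMap τ s ≫ gPt aS χ s :=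
  pullback.lift_fst _ _ _

theorem finPt_snd : finPt aS χ s ≫ pullback.snd (bSnd (aObj aS) (MStr S d)) (πStr S d) = strFibZ τ s :=
  pullback.lift_snd _ _ _

theorem isPullback_finPt :
    IsPullback (finPt aS χ s) (strFibMap τ s) (finMap (πStr S d) (aObj aS)) (gPt aS χ s) := by
  refine IsPullback.of_right ?_ (finPt_fst aS χ s) (IsPullback.of_hasPullback _ _).flip
  rw [finPt_snd, bLift_snd]
  exact (isPullback_strFib τ s).flip

variable {α : A →+* R} (hχ : χ.left = Spec.map (CommRingCat.ofHom α)) (ψ : C →+* s.Alg)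
  (hψ : ψ.comp (algebraMap A C) = (algebraMap R s.Alg).comp α)

/-- The map of the fibre given by a ring map. -/
def secMap : strFib τ s ⟶ cObj aS C :=
  Over.homMk (Spec.map (CommRingCat.ofHom ψ)) (by
    show Spec.map _ ≫ Spec.map _ ≫ aS = Spec.map _ ≫ τ
    rw [← Spec.map_comp_assoc, ← CommRingCat.ofHom_comp, hψ, CommRingCat.ofHom_comp, Spec.map_comp_assoc]
    congr 1
    rw [← hχ]
    exact Over.w χ)

/-- The point of the affine scheme over the family. -/
def yPt : strFib τ s ⟶ yObj aS C d :=
  pullback.lift (finPt aS χ s) (secMap aS χ s hχ ψ hψ) (by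
    rw [← Category.assoc, finPt_fst, Category.assoc, bLift_fst]
    refine Over.OverMorphism.ext ?_
    show Spec.map _ ≫ χ.left = Spec.map _ ≫ Spec.map _
    rw [hχ, ← Spec.map_comp, ← Spec.map_comp, ← CommRingCat.ofHom_comp, ← CommRingCat.ofHom_comp, hψ])

theorem yPt_yMap : yPt aS χ s hχ ψ hψ ≫ yMap aS C d = finPt aS χ s := pullback.lift_fst _ _ _

theorem yPt_yC : yPt aS χ s hχ ψ hψ ≫ yC aS C d = secMap aS χ s hχ ψ hψ := pullback.lift_snd _ _ _

theorem exists_ringPoint : ∃ l : (yon S).obj (Over.mk τ) ⟶
      push ((yon S).map (finMap (πStr S d) (aObj aS))) ((yon S).map (yMap aS C d)),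
    l ≫ proj _ _ = (yon S).map (gPt aS χ s) ∧
      ∀ e, (homEquiv _ _ _ l).h (strFibMap τ s) ((yon S).map (finPt aS χ s)) e =
        (yon S).map (yPt aS χ s hχ ψ hψ) :=
  exists_point_of_fib (isPullback_finPt aS χ s) _ (yPt_yMap aS χ s hχ ψ hψ)

end Ring

/-- The parameter scheme. -/
abbrev parObj (C : Type u) [CommRing C] [Algebra A C] (d : ℕ) : Over S := Over.mk (Spec.map (CommRingCat.ofHom (algebraMap A (Par A C d))) ≫ aS)

/-- Its projection. -/
abbrev parBase (C : Type u) [CommRing C] [Algebra A C] (d : ℕ) : parObj aS C d ⟶ aObj aS :=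
  Over.homMk (Spec.map (CommRingCat.ofHom (algebraMap A (Par A C d)))) rfl

theorem parMap_comp :
    (parMap A C d).comp (algebraMap A C) =
      (algebraMap (Par A C d) (parStr A C d).Alg).comp (algebraMap A (Par A C d)) :=
  RingHom.ext fun a => (parMap_algebraMap (C := C) (d := d) a)

theorem map_w {R : Type u} [CommRing R] (x : Par A C d →+* R) {s : Str R d} (hs : (parStr A C d).map x = s) :
    ((Str.algMap x hs).comp (parMap A C d)).comp (algebraMap A C) =
      (algebraMap R s.Alg).comp (x.comp (algebraMap A (Par A C d))) := by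
  rw [RingHom.comp_assoc, parMap_comp, ← RingHom.comp_assoc, Str.algMap_comp_algebraMap, RingHom.comp_assoc]

/-- The parameter scheme represents the pushforward. -/
theorem exists_parPush (C : Type u) [CommRing C] [Algebra A C] (d : ℕ) : ∃ θ : (yon S).obj (parObj aS C d) ⟶
      push ((yon S).map (finMap (πStr S d) (aObj aS))) ((yon S).map (yMap aS C d)),
    IsIso θ ∧ θ ≫ proj _ _ = (yon S).map (gPt aS (parBase aS C d) (parStr A C d)) := by
  obtain ⟨θ, hθg, hθh⟩ := exists_ringPoint aS (parBase aS C d) (parStr A C d) rfl (parMap A C d) parMap_comp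
  refine ⟨θ, ?_, hθg⟩
  have key : ∀ {R : Type u} [CommRing R] {τ : Spec (CommRingCat.of R) ⟶ S} (a : Over.mk τ ⟶ parObj aS C d)
      (x : Par A C d →+* R) (hx : a.left = Spec.map (CommRingCat.ofHom x)) (χ : Over.mk τ ⟶ aObj aS)
      (hχa : a ≫ parBase aS C d = χ) (s : Str R d) (hs : (parStr A C d).map x = s)
      (hχ : χ.left = Spec.map (CommRingCat.ofHom (x.comp (algebraMap A (Par A C d))))),
      ((yon S).map a ≫ θ) ≫ proj _ _ = (yon S).map (gPt aS χ s) ∧
      ∀ e, (homEquiv _ _ _ ((yon S).map a ≫ θ)).h (strFibMap τ s) ((yon S).map (finPt aS χ s)) e =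
        (yon S).map (yPt aS χ s hχ ((Str.algMap x hs).comp (parMap A C d)) (map_w x hs)) := by
    intro R _ τ a x hx χ hχa s hs hχ
    subst hχa
    have hpt : a ≫ strPt _ (parStr A C d) = strPt τ s := mStr_hom_ext (by
      rw [Over.comp_left, Category.assoc, mLift_proj]
      erw [mLift_proj]
      rw [hx, ← Spec.map_comp, ← CommRingCat.ofHom_comp, toHom_map, hs])
    have hg : a ≫ gPt aS (parBase aS C d) (parStr A C d) = gPt aS (a ≫ parBase aS C d) s :=
      base_hom_ext (by rw [Category.assoc, bLift_fst, bLift_fst]) (by rw [Category.assoc, bLift_snd, bLift_snd, hpt])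
    refine ⟨by rw [Category.assoc, hθg, ← Functor.map_comp, hg], fun e => ?_⟩
    let q : strFib τ s ⟶ strFib (parObj aS C d).hom (parStr A C d) :=
      Over.homMk (Spec.map (CommRingCat.ofHom (Str.algMap x hs))) (by
        show Spec.map _ ≫ Spec.map _ ≫ (parObj aS C d).hom = Spec.map _ ≫ τ
        rw [← Spec.map_comp_assoc, ← CommRingCat.ofHom_comp, Str.algMap_comp_algebraMap, CommRingCat.ofHom_comp,
          Spec.map_comp_assoc, ← hx]
        congr 1
        exact Over.w a)
    have hq1 : q ≫ strFibMap _ (parStr A C d) = strFibMap τ s ≫ a := Over.OverMorphism.ext (by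
      show Spec.map _ ≫ Spec.map _ = Spec.map _ ≫ a.left
      rw [hx, ← Spec.map_comp, ← Spec.map_comp, ← CommRingCat.ofHom_comp, Str.algMap_comp_algebraMap]
      rfl)
    have hq2 : q ≫ finPt aS (parBase aS C d) (parStr A C d) = finPt aS (a ≫ parBase aS C d) s := by
      apply pullback.hom_ext
      · rw [Category.assoc, finPt_fst, finPt_fst, ← Category.assoc, hq1, Category.assoc, hg]
      · rw [Category.assoc, finPt_snd, finPt_snd]
        refine Over.OverMorphism.ext (pullback.hom_ext ?_ ?_)
        · show (q.left ≫ strFibZAux _ _) ≫ _ = strFibZAux _ _ ≫ _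
          rw [Category.assoc, strFibZAux, pullback.lift_fst, strFibZAux, pullback.lift_fst, ← Category.assoc,
            ← Over.comp_left, hq1, Over.comp_left, Category.assoc, ← hpt, Over.comp_left]
        · show (q.left ≫ strFibZAux _ _) ≫ _ = strFibZAux _ _ ≫ _
          rw [Category.assoc, strFibZAux, pullback.lift_snd, strFibZAux, pullback.lift_snd]
          show Spec.map _ ≫ Spec.map _ = Spec.map _
          rw [← Spec.map_comp, ← CommRingCat.ofHom_comp]
          congr 2
          refine RingHom.ext fun v => s.basis.repr.injective (Finsupp.ext fun j => ?_)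
          rw [RingHom.comp_apply, univAlgMap, univAlgMap, Str.repr_algMap, Str.repr_algMap, Str.repr_algMap,
            ← RingHom.comp_apply, toHom_map, hs]
    let E := homEquiv _ _ _ θ
    have hE : E.g = (yon S).map (gPt aS (parBase aS C d) (parStr A C d)) := (comp_proj _ _ θ).symm.trans hθg
    have e0 : (yon S).map (strFibMap _ (parStr A C d)) ≫ E.g =
        (yon S).map (finPt aS (parBase aS C d) (parStr A C d)) ≫ (yon S).map (finMap (πStr S d) (aObj aS)) := by
      rw [hE, ← Functor.map_comp, ← Functor.map_comp, finPt_fst]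
    have e1 : (yon S).map (q ≫ strFibMap _ (parStr A C d)) ≫ E.g =
        ((yon S).map q ≫ (yon S).map (finPt aS (parBase aS C d) (parStr A C d))) ≫
          (yon S).map (finMap (πStr S d) (aObj aS)) := by
      rw [Functor.map_comp, Category.assoc, e0, Category.assoc]
    have e2 : (yon S).map (strFibMap τ s) ≫ (Elem.restrict a E).g =
        (yon S).map (finPt aS (a ≫ parBase aS C d) s) ≫ (yon S).map (finMap (πStr S d) (aObj aS)) := by
      show (yon S).map _ ≫ (yon S).map a ≫ E.g = _
      rw [hE, ← Functor.map_comp, ← Functor.map_comp, ← Functor.map_comp, hg, finPt_fst]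
    refine (Groth.L23.UHPush.Elem.congr_h _ _ (homEquiv_comp _ _ a θ) e e2).trans ?_
    refine (E.h_congr hq1.symm (show (yon S).map (finPt aS (a ≫ parBase aS C d) s) =
      (yon S).map q ≫ (yon S).map (finPt aS (parBase aS C d) (parStr A C d)) by
        rw [← Functor.map_comp, hq2]) _ e1).trans ?_
    rw [E.nat q _ _ e0 e1, hθh, ← Functor.map_comp]
    congr 1
    apply pullback.hom_ext
    · rw [Category.assoc, yPt_yMap, yPt_yMap, hq2]
    · rw [Category.assoc, yPt_yC, yPt_yC]
      refine Over.OverMorphism.ext ?_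
      show Spec.map _ ≫ Spec.map _ = Spec.map _
      rw [← Spec.map_comp, ← CommRingCat.ofHom_comp]
  refine Res.isIso_of_spec θ (fun R τ k k' hkk => ?_) fun R τ l => ?_
  · obtain ⟨a, rfl⟩ := (yon S).map_surjective k
    obtain ⟨a', rfl⟩ := (yon S).map_surjective k'
    let x : Par A C d →+* R := (Spec.preimage a.left).hom
    let x' : Par A C d →+* R := (Spec.preimage a'.left).hom
    have hx : a.left = Spec.map (CommRingCat.ofHom x) := (Spec.map_preimage _).symm
    have hx' : a'.left = Spec.map (CommRingCat.ofHom x') := (Spec.map_preimage _).symm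
    have hc : ∀ (b : Over.mk τ ⟶ parObj aS C d) (y : Par A C d →+* R), b.left = Spec.map (CommRingCat.ofHom y) →
        (b ≫ parBase aS C d).left = Spec.map (CommRingCat.ofHom (y.comp (algebraMap A (Par A C d)))) := fun b y hy => by
      rw [Over.comp_left, hy]
      exact (Spec.map_comp _ _).symm
    obtain ⟨g1, h1⟩ := key (R := R) (τ := τ) a x hx _ rfl _ rfl (hc a x hx)
    obtain ⟨g1', -⟩ := key (R := R) (τ := τ) a' x' hx' _ rfl _ rfl (hc a' x' hx')
    rw [hkk] at g1
    have hgg := (yon S).map_injective (g1.symm.trans g1')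
    have hχ : a' ≫ parBase aS C d = a ≫ parBase aS C d := by
      simpa only [bLift_fst] using (hgg =≫ bFst _ _).symm
    have hst : (parStr A C d).map x' = (parStr A C d).map x := by
      have h2 : strPt τ ((parStr A C d).map x) = strPt τ ((parStr A C d).map x') := by
        simpa only [bLift_snd] using hgg =≫ bSnd _ _
      have h3 := congrArg (fun t => t.left ≫ MStr.proj S d) h2
      simp only [mLift_proj] at h3
      exact (univStr_map_toHom ((parStr A C d).map x')).symm.trans
        ((congrArg univStr.map (congrArg CommRingCat.Hom.hom (Spec.map_injective h3.symm))).trans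
          (univStr_map_toHom ((parStr A C d).map x)))
    have hA : x'.comp (algebraMap A (Par A C d)) = x.comp (algebraMap A (Par A C d)) :=
      congrArg CommRingCat.Hom.hom (Spec.map_injective
        (((hc a' x' hx').symm.trans (congrArg CommaMorphism.left hχ)).trans (hc a x hx)))
    obtain ⟨g2, h2⟩ := key (R := R) (τ := τ) a' x' hx' _ hχ _ hst (hA ▸ hc a x hx)
    have e : (yon S).map (strFibMap τ ((parStr A C d).map x)) ≫ (homEquiv _ _ _ ((yon S).map a ≫ θ)).g =
        (yon S).map (finPt aS (a ≫ parBase aS C d) ((parStr A C d).map x)) ≫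
          (yon S).map (finMap (πStr S d) (aObj aS)) := by
      rw [← comp_proj, hkk, g1, ← Functor.map_comp, ← Functor.map_comp, finPt_fst]
    have e' : (yon S).map (strFibMap τ ((parStr A C d).map x)) ≫ (homEquiv _ _ _ ((yon S).map a' ≫ θ)).g =
        (yon S).map (finPt aS (a ≫ parBase aS C d) ((parStr A C d).map x)) ≫
          (yon S).map (finMap (πStr S d) (aObj aS)) := by
      rw [← comp_proj, g1, ← Functor.map_comp, ← Functor.map_comp, finPt_fst]
    have h4 := (yon S).map_injective (((h1 e).symm.trans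
      (Groth.L23.UHPush.Elem.congr_h _ _ (congrArg (homEquiv _ _ _) hkk) e e')).trans (h2 e'))
    have h5 := congrArg CommaMorphism.left (h4 =≫ yC aS C d)
    rw [yPt_yC, yPt_yC] at h5
    have h6 := congrArg CommRingCat.Hom.hom (Spec.map_injective h5)
    letI : Algebra A R := (x.comp (algebraMap A (Par A C d))).toAlgebra
    let ax : Par A C d →ₐ[A] R := { x with commutes' := fun r => rfl }
    let ax' : Par A C d →ₐ[A] R := { x' with commutes' := fun r => RingHom.congr_fun hA r }
    have hxx : ax = ax' := par_hom_ext hst.symm fun c j => by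
      have h7 := congrArg (fun v => ((parStr A C d).map x).basis.repr v j) (RingHom.congr_fun h6 c)
      simp only [CommRingCat.hom_ofHom, RingHom.comp_apply, Str.repr_algMap] at h7
      exact h7
    refine congrArg _ (Over.OverMorphism.ext ?_)
    rw [hx, hx', show x = x' from congrArg AlgHom.toRingHom hxx]
  · obtain ⟨g, hg⟩ := (yon S).map_surjective (l ≫ proj _ _)
    let χ := g ≫ bFst (aObj aS) (MStr S d)
    let α : A →+* R := (Spec.preimage χ.left).hom
    have hα : χ.left = Spec.map (CommRingCat.ofHom α) := (Spec.map_preimage _).symm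
    let θt : StrRing.{u} d →+* R := (Spec.preimage ((g ≫ bSnd (aObj aS) (MStr S d)).left ≫ MStr.proj S d)).hom
    let s : Str R d := univStr.map θt
    have hst : s.toHom = θt := strRing_hom_ext (univStr_map_toHom _)
    have hg' : g = gPt aS χ s := base_hom_ext (bLift_fst _ _).symm ((bLift_snd _ _).trans (mStr_hom_ext (by
      erw [mLift_proj]
      rw [hst]
      exact Spec.map_preimage _))).symm
    have hlg : l ≫ proj _ _ = (yon S).map (gPt aS χ s) := by rw [← hg', hg]
    have e : (yon S).map (strFibMap τ s) ≫ (homEquiv _ _ _ l).g =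
        (yon S).map (finPt aS χ s) ≫ (yon S).map (finMap (πStr S d) (aObj aS)) := by
      rw [← comp_proj, hlg, ← Functor.map_comp, ← Functor.map_comp, finPt_fst]
    obtain ⟨k, hk⟩ := (yon S).map_surjective ((homEquiv _ _ _ l).h (strFibMap τ s) _ e)
    have hkb : k ≫ yMap aS C d = finPt aS χ s := (yon S).map_injective (by
      rw [Functor.map_comp, hk]
      exact Elem.over _ _ _ _)
    let ψ : C →+* s.Alg := (Spec.preimage (k ≫ yC aS C d).left).hom
    have hψs : (k ≫ yC aS C d).left = Spec.map (CommRingCat.ofHom ψ) := (Spec.map_preimage _).symm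
    have hψ : ψ.comp (algebraMap A C) = (algebraMap R s.Alg).comp α := by
      refine congrArg CommRingCat.Hom.hom (Spec.map_injective (a₁ := CommRingCat.ofHom _) (a₂ := CommRingCat.ofHom _) ?_)
      rw [CommRingCat.ofHom_comp, CommRingCat.ofHom_comp, Spec.map_comp, Spec.map_comp, ← hψs, ← hα]
      refine congrArg CommaMorphism.left (show (k ≫ yC aS C d) ≫ cMap aS C = strFibMap τ s ≫ χ from ?_)
      rw [Category.assoc, ← pullback.condition, reassoc_of% hkb, ← Category.assoc (finPt aS χ s), finPt_fst,
        Category.assoc, bLift_fst]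
    letI : Algebra A R := α.toAlgebra
    obtain ⟨x, hxs, hxc⟩ := exists_par_hom (C := C) s ψ (RingHom.congr_fun hψ)
    let a : Over.mk τ ⟶ parObj aS C d := Over.homMk (Spec.map (CommRingCat.ofHom x.toRingHom)) (by
      show Spec.map _ ≫ Spec.map _ ≫ aS = τ
      rw [← Spec.map_comp_assoc, ← CommRingCat.ofHom_comp, show x.toRingHom.comp (algebraMap A (Par A C d)) = α from
        RingHom.ext x.commutes, ← hα]
      exact Over.w χ)
    have hχa : a ≫ parBase aS C d = χ := Over.OverMorphism.ext (by
      show Spec.map _ ≫ Spec.map _ = χ.left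
      rw [← Spec.map_comp, ← CommRingCat.ofHom_comp, hα]
      exact congrArg (fun φ => Spec.map (CommRingCat.ofHom φ)) (RingHom.ext x.commutes))
    obtain ⟨g1, h1⟩ := key (R := R) (τ := τ) a x.toRingHom rfl χ hχa s hxs (by
      rw [hα, show x.toRingHom.comp (algebraMap A (Par A C d)) = α from RingHom.ext x.commutes])
    refine ⟨(yon S).map a, point_ext (isPullback_finPt aS χ s) g1 hlg fun e₁ e₂ => ?_⟩
    rw [h1, ← hk]
    congr 1
    apply pullback.hom_ext
    · rw [yPt_yMap, hkb]
    · rw [yPt_yC]
      refine Over.OverMorphism.ext ?_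
      rw [hψs]
      show Spec.map _ = _
      congr 2
      refine RingHom.ext fun c => s.basis.repr.injective (Finsupp.ext fun j => ?_)
      rw [RingHom.comp_apply, Str.repr_algMap]
      exact hxc c j

end Groth.L09.Artin
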